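import Groth.Agent.SSMod.K502.SteinCtn
import Groth.Agent.Ega4dA.Dim1Top

/-!
# STEIN: contraction of a connected union of components of a fibre
-/

set_option autoImplicit false
universe u

open CategoryTheory CategoryTheory.Limits AlgebraicGeometry TopologicalSpace

namespace K502.Stein

open K502.SteinTop K502.SteinFib

/-- A closed connected subset of a fibre of a proper morphism contained in an affine open is a point. -/
theorem subsingleton_of_affine {Y V : Scheme.{u}} [IsAffine V] (g : Y ⟶ V) [IsProper g] (c : V) (V₀ : Y.Opens)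
    (hV₀ : IsAffineOpen V₀) (K : Set Y) (hK : IsClosed K) (hKc : _root_.IsPreconnected K) (hKV : K ⊆ V₀)
    (hKg : K ⊆ g ⁻¹' {c}) : K.Subsingleton := by
  let I := Scheme.IdealSheafData.vanishingIdeal (⟨K, hK⟩ : Closeds Y)
  have hrange : Set.range I.subschemeι = K := by
    rw [Scheme.IdealSheafData.range_subschemeι, Scheme.IdealSheafData.coe_support_vanishingIdeal]
    rfl
  have htop : I.subschemeι ⁻¹ᵁ V₀ = ⊤ := by
    rw [eq_top_iff]
    intro w _
    exact hKV (by rw [← hrange]; exact ⟨w, rfl⟩)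
  have haff : IsAffineOpen (I.subschemeι ⁻¹ᵁ V₀) := hV₀.preimage _
  rw [htop] at haff
  have hW : IsAffine I.subscheme := by
    have h1 : IsAffine (⊤ : I.subscheme.Opens) := haff
    exact IsAffine.of_isIso I.subscheme.topIso.inv
  let h : I.subscheme ⟶ V := I.subschemeι ≫ g
  have hfin : IsFinite h := by
    rw [IsFinite.iff_isProper_and_isAffineHom]
    exact ⟨inferInstance, inferInstance⟩
  have huniv : h ⁻¹' {c} = Set.univ := by
    rw [Set.eq_univ_iff_forall]
    intro w
    have : I.subschemeι w ∈ K := by rw [← hrange]; exact ⟨w, rfl⟩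
    have := hKg this
    show h w = c
    rw [Scheme.Hom.comp_apply]
    exact this
  have hdisc := (h.isDiscrete_preimage_singleton c)
  rw [huniv] at hdisc
  have hdt : DiscreteTopology ↥I.subscheme := by
    have := hdisc.to_subtype
    exact (Homeomorph.Set.univ ↥I.subscheme).symm.isEmbedding.discreteTopology
  have hpc : _root_.IsPreconnected (Set.univ : Set ↥I.subscheme) := by
    rw [← I.subschemeι.isEmbedding.isInducing.isPreconnected_image, Set.image_univ, hrange]
    exact hKc
  have hsub := hpc.subsingleton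
  rw [← hrange]
  rintro _ ⟨a, rfl⟩ _ ⟨b, rfl⟩
  rw [hsub (Set.mem_univ a) (Set.mem_univ b)]

section Fibre

variable {X S : Scheme.{u}} (p : X ⟶ S) (s : S) (hs : IsClosed ({s} : Set S))

include hs in
theorem eq_of_fiber [NoetherianSpace ↥(p.fiber s)] {G T : Set X} (hG : IsClosed G)
    (hGc : _root_.IsPreconnected G) (hT : IsClosed T) (hTn : T.Nonempty) (hTG : T ⊆ G) (hGs : G ⊆ p ⁻¹' {s})
    (hcl : ∀ x ∈ G, x ∉ T → IsClosed ({x} : Set X)) : G = T := by
  have hι := isClosedEmbedding_fiberι p s hs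
  have hr : ∀ G' : Set X, G' ⊆ p ⁻¹' {s} → (p.fiberι s) '' ((p.fiberι s) ⁻¹' G') = G' := by
    intro G' hG'
    rw [Set.image_preimage_eq_inter_range]
    exact Set.inter_eq_left.2 (hG'.trans (Scheme.Hom.range_fiberι p s).symm.subset)
  have key : (p.fiberι s) ⁻¹' G = (p.fiberι s) ⁻¹' T := by
    refine eq_of_isClosed_points (hG.preimage hι.continuous) ?_ (hT.preimage hι.continuous) ?_
      (Set.preimage_mono hTG) ?_
    · rw [← hι.isInducing.isPreconnected_image, hr G hGs]
      exact hGc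
    · obtain ⟨x, hx⟩ := hTn
      have : x ∈ (p.fiberι s) '' ((p.fiberι s) ⁻¹' T) := by rw [hr T (hTG.trans hGs)]; exact hx
      obtain ⟨z, hz, -⟩ := this
      exact ⟨z, hz⟩
    · intro z hz hzT
      exact (isClosed_singleton_iff p s hs z).1 (hcl _ hz hzT)
  rw [← hr G hGs, key, hr T (hTG.trans hGs)]

include hs in
theorem infinite_closure_of_fiber [JacobsonSpace ↥(p.fiber s)] (ξ : X) (hξs : p ξ = s)
    (hξ : ¬ IsClosed ({ξ} : Set X)) : (closure ({ξ} : Set X)).Infinite := by
  obtain ⟨z, rfl⟩ : ∃ z, p.fiberι s z = ξ := by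
    have : ξ ∈ Set.range (p.fiberι s) := by rw [Scheme.Hom.range_fiberι p s]; exact hξs
    exact this
  have hι := isClosedEmbedding_fiberι p s hs
  have h1 := infinite_closure z (fun h => hξ ((isClosed_singleton_iff p s hs z).2 h))
  refine (h1.image hι.injective.injOn).mono ?_
  rintro _ ⟨w, hw, rfl⟩
  have h2 : z ⤳ w := specializes_iff_mem_closure.2 hw
  exact specializes_iff_mem_closure.1 (h2.map hι.continuous)

theorem finite_nonclosed [NoetherianSpace ↥(p.fiber s)] (hdim : topologicalKrullDim ↥(p.fiber s) ≤ 1) :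
    {z : p.fiber s | ¬ IsClosed ({z} : Set ↥(p.fiber s))}.Finite := by
  have hcomp : (irreducibleComponents ↥(p.fiber s)).Finite := NoetherianSpace.finite_irreducibleComponents
  have hinj : Function.Injective (fun z : p.fiber s => closure ({z} : Set ↥(p.fiber s))) := by
    intro a b hab
    have hab' : closure ({a} : Set ↥(p.fiber s)) = closure {b} := hab
    exact (inseparable_iff_closure_eq.2 hab').eq
  refine (hcomp.preimage hinj.injOn).subset ?_
  intro z hz
  refine ⟨isIrreducible_singleton.closure, fun Z hZ hle => ?_⟩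
  obtain ⟨ξ, hξ⟩ := QuasiSober.sober hZ.closure isClosed_closure
  have hsp : ξ ⤳ z := by
    rw [specializes_iff_mem_closure, hξ.def]
    exact subset_closure (hle (subset_closure rfl))
  by_cases hne : ξ = z
  · intro w hw
    have := subset_closure hw
    rw [← hξ.def, hne] at this
    exact this
  · exact absurd (Groth.Agent.Ega4dA.Dim1Top.isClosed_of_specializes hdim hsp hne) hz

end Fibre

theorem main : K755.SSPlan.GG.{u} → K755.SSPlan.Div.{u} → K755.SSPlan.Fin.{u} → K755.SSPlan.Stein.{u} := by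
  intro hGG hDiv hFin R _ _ _ _ _ V X _ φ _ f _ hnod c hc hcc T hTc hTn hTf hTpre _
  let s : Spec (CommRingCat.of R) := IsLocalRing.closedPoint R
  let p : X ⟶ Spec (CommRingCat.of R) := f ≫ φ
  have hs : IsClosed ({s} : Set (Spec (CommRingCat.of R))) := (PrimeSpectrum.isClosed_singleton_iff_isMaximal _).2
    (inferInstanceAs (IsLocalRing.maximalIdeal R).IsMaximal)
  have hnodp : Curv2.IsNodalFamily p := hnod
  have hflat : Flat p := hnod.1
  have hlfp : LocallyOfFinitePresentation p := hnod.2.1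
  have hsep : IsSeparated p := inferInstance
  have hqc : QuasiCompact p := inferInstance
  have hrel : Cyc.HasRelDim p 1 := fun y => (hnod.2.2 y).1
  have hlft : LocallyOfFiniteType (p.fiberToSpecResidueField s) :=
    MorphismProperty.of_isPullback (IsPullback.of_hasPullback p ((Spec (CommRingCat.of R)).fromSpecResidueField s))
      inferInstance
  have hqcf : QuasiCompact (p.fiberToSpecResidueField s) :=
    MorphismProperty.of_isPullback (IsPullback.of_hasPullback p ((Spec (CommRingCat.of R)).fromSpecResidueField s))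
      inferInstance
  have hJac : JacobsonSpace ↥(p.fiber s) := LocallyOfFiniteType.jacobsonSpace (p.fiberToSpecResidueField s)
  have hLN : IsLocallyNoetherian (p.fiber s) := LocallyOfFiniteType.isLocallyNoetherian (p.fiberToSpecResidueField s)
  have hCS : CompactSpace ↥(p.fiber s) := QuasiCompact.compactSpace_of_compactSpace (p.fiberToSpecResidueField s)
  have hNoeth : NoetherianSpace ↥(p.fiber s) := by
    have : IsNoetherian (p.fiber s) := { }
    infer_instance
  have hdim : topologicalKrullDim ↥(p.fiber s) ≤ 1 := krullDim_fiber_le p hnodp s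
  have hι := isClosedEmbedding_fiberι p s hs
  -- the chosen points
  let N : Set (p.fiber s) := {z | ¬ IsClosed ({z} : Set ↥(p.fiber s)) ∧ p.fiberι s z ∉ T}
  have hN : N.Finite := (finite_nonclosed p s hdim).subset fun z hz => hz.1
  have hchoice : ∀ z : N, ∃ x : p.fiber s, (z : p.fiber s) ⤳ x ∧ p.fiberι s x ∈ p.smoothLocus ∧ p.fiberι s x ∉ T ∧
      IsClosed ({x} : Set ↥(p.fiber s)) := by
    intro z
    have h1 : p.fiberι s z ∈ p.smoothLocus := mem_smoothLocus p hnodp s z z.2.1
    obtain ⟨x, hx1, hx2, hx3⟩ := exists_closed (z : p.fiber s)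
      ((p.fiberι s) ⁻¹' ((p.smoothLocus : Set X) ∩ Tᶜ))
      ((p.smoothLocus.isOpen.inter hTc.isOpen_compl).preimage hι.continuous) ⟨h1, z.2.2⟩
    exact ⟨x, hx1, hx2.1, hx2.2, hx3⟩
  choose xp hxp1 hxp2 hxp3 hxp4 using hchoice
  have hNf : Finite N := hN.to_subtype
  let F : Set X := Set.range fun z : N => p.fiberι s (xp z)
  obtain ⟨L, t, hL, hF1, hF2, hF3⟩ := SteinDiv.exists_line hDiv R p hrel F (Set.finite_range _)
    (by rintro _ ⟨z, rfl⟩; exact hxp2 z)
    (by rintro _ ⟨z, rfl⟩; exact (isClosed_singleton_iff p s hs _).2 (hxp4 z))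
    (by
      rintro _ ⟨z, rfl⟩
      have h1 : p.fiberι s (xp z) ∈ Set.range (p.fiberι s) := ⟨_, rfl⟩
      rw [Scheme.Hom.range_fiberι p s] at h1
      exact h1)
  have hTL : T ⊆ CohB1.genLocus L t := by
    intro x hx
    by_contra hcon
    obtain ⟨_, ⟨z, rfl⟩, hz⟩ := hF2 x hcon
    exact hxp3 z (hz.mem_closed hTc hx)
  -- a globally generated power
  let A : Type u := Γ(V, ⊤)
  let f' : X ⟶ Spec (CommRingCat.of A) := f ≫ V.isoSpec.hom
  have hf'p : f' ≫ V.isoSpec.inv ≫ φ = p := by
    show (f ≫ V.isoSpec.hom) ≫ V.isoSpec.inv ≫ φ = f ≫ φ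
    rw [Category.assoc, Iso.hom_inv_id_assoc]
  have hf'lfp : LocallyOfFinitePresentation f' := by
    have h1 : LocallyOfFinitePresentation (f' ≫ V.isoSpec.inv ≫ φ) := by rw [hf'p]; exact hlfp
    exact Groth.Agent.Ega43.FPOfComp.locallyOfFinitePresentation_of_comp f' (V.isoSpec.inv ≫ φ)
  obtain ⟨n, hn, hgg⟩ := hGG f' (fun y => krullDim_fiber_factor_le p f' (V.isoSpec.inv ≫ φ) hf'p hnodp y) hL t
    (by
      intro y
      refine (hF3 ((V.isoSpec.inv ≫ φ) y)).subset ?_
      rintro x ⟨hx1, hx2⟩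
      have hx1' : f' x = y := hx1
      refine ⟨?_, hx2⟩
      show p x = _
      rw [← hf'p, Scheme.Hom.comp_apply, hx1'])
  obtain ⟨Y, σ, g, hctn, hgc, V₀, hV₀, hσV₀⟩ := SteinCtn.exists_ctn hFin R φ f hnod hL t hn hgg
  have hσp := hctn.proper_σ
  have hgp := hctn.proper_g
  have hfx : ∀ x : X, g (σ x) = f x := by
    intro x
    rw [← Scheme.Hom.comp_apply, hctn.fac]
  have hpx : ∀ x : X, f x = c → p x = s := by
    intro x hx
    show (f ≫ φ) x = _
    rw [Scheme.Hom.comp_apply, hx]
    exact hc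
  -- the image of `T` is a point
  have hKc : IsClosed (σ '' T) := σ.isClosedMap _ hTc
  have hKs : (σ '' T).Subsingleton := by
    refine subsingleton_of_affine g c V₀ hV₀ (σ '' T) hKc (hTpre.image _ σ.continuous.continuousOn) ?_ ?_
    · rintro _ ⟨x, hx, rfl⟩
      have : x ∈ σ ⁻¹ᵁ V₀ := by rw [hσV₀]; exact hTL hx
      exact this
    · rintro _ ⟨x, hx, rfl⟩
      exact (hfx x).trans (hTf hx)
  obtain ⟨x₀, hx₀⟩ := hTn
  let y₀ : Y := σ x₀
  have hKy : σ '' T = {y₀} := by
    refine Set.Subset.antisymm ?_ ?_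
    · intro y hy
      exact hKs hy ⟨x₀, hx₀, rfl⟩
    · rintro _ rfl
      exact ⟨x₀, hx₀, rfl⟩
  have hy₀c : IsClosed ({y₀} : Set Y) := by rw [← hKy]; exact hKc
  have hgy₀ : g y₀ = c := (hfx x₀).trans (hTf hx₀)
  have hTG : T ⊆ σ ⁻¹' {y₀} := by
    intro x hx
    have : σ x ∈ σ '' T := ⟨x, hx, rfl⟩
    rw [hKy] at this
    exact this
  -- the non-closed points of the fibres over `c`
  have key : ∀ y : Y, g y = c → IsClosed ({y} : Set Y) → ∀ ξ : X, σ ξ = y → ¬ IsClosed ({ξ} : Set X) → ξ ∈ T := by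
    intro y hgy hyc ξ hξy hξc
    by_contra hξT
    have hfξ : f ξ = c := by rw [← hfx, hξy, hgy]
    have hpξ : p ξ = s := hpx ξ hfξ
    obtain ⟨z, rfl⟩ : ∃ z, p.fiberι s z = ξ := by
      have : ξ ∈ Set.range (p.fiberι s) := by rw [Scheme.Hom.range_fiberι p s]; exact hpξ
      exact this
    have hzN : z ∈ N := ⟨fun h => hξc ((isClosed_singleton_iff p s hs z).2 h), hξT⟩
    let x : X := p.fiberι s (xp ⟨z, hzN⟩)
    have hxF : x ∈ F := ⟨⟨z, hzN⟩, rfl⟩
    have hsp : p.fiberι s z ⤳ x := (hxp1 ⟨z, hzN⟩).map hι.continuous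
    have hGcl : IsClosed (σ ⁻¹' {y}) := hyc.preimage σ.continuous
    have hclG : closure {p.fiberι s z} ⊆ σ ⁻¹' {y} := closure_minimal (Set.singleton_subset_iff.2 hξy) hGcl
    have hxy : σ x = y := hclG (specializes_iff_mem_closure.1 hsp)
    have hyV : y ∉ V₀ := by
      intro hy
      have h1 : x ∈ σ ⁻¹ᵁ V₀ := by
        show σ x ∈ V₀
        rw [hxy]; exact hy
      rw [hσV₀] at h1
      exact hF1 x hxF h1
    have hGZ : ∀ w ∈ σ ⁻¹' {y}, w ∉ CohB1.genLocus L t := by
      intro w hw hw'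
      rw [← hσV₀] at hw'
      have h1 : σ w ∈ V₀ := hw'
      have h2 : σ w = y := hw
      rw [h2] at h1
      exact hyV h1
    have hfin : (closure {p.fiberι s z}).Finite := by
      refine (hF3 s).subset ?_
      intro w hw
      have hw' := hclG hw
      refine ⟨?_, hGZ w hw'⟩
      have hw'' : σ w = y := hw'
      exact hpx w (by rw [← hfx, hw'', hgy])
    exact infinite_closure_of_fiber p s hs _ hpξ hξc hfin
  have hGs : ∀ y : Y, g y = c → σ ⁻¹' {y} ⊆ p ⁻¹' {s} := by
    intro y hgy w hw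
    have hw' : σ w = y := hw
    exact hpx w (by rw [← hfx, hw', hgy])
  refine ⟨Y, σ, g, hctn, y₀, ?_, ?_⟩
  · refine eq_of_fiber p s hs (hy₀c.preimage σ.continuous) (K122.Stein.isPreconnected_preimage σ y₀) hTc ⟨x₀, hx₀⟩ hTG
      (hGs y₀ hgy₀) ?_
    intro x hx hxT
    by_contra hxc
    exact hxT (key y₀ hgy₀ hy₀c x hx hxc)
  · intro y hgy hne hyc
    have hall : ∀ x ∈ σ ⁻¹' {y}, IsClosed ({x} : Set X) := by
      intro x hx
      by_contra hxc
      have hxT := key y hgy hyc x hx hxc
      have h1 : σ x = y₀ := hTG hxT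
      have h2 : σ x = y := hx
      exact hne (h2.symm.trans h1)
    have hne' : (σ ⁻¹' {y}).Nonempty := by
      have h1 : ConnectedSpace ↥(σ.fiber y) := inferInstance
      obtain ⟨w⟩ := h1.toNonempty
      have h2 : σ.fiberι y w ∈ Set.range (σ.fiberι y) := ⟨w, rfl⟩
      rw [Scheme.Hom.range_fiberι σ y] at h2
      exact ⟨_, h2⟩
    obtain ⟨x, hx⟩ := hne'
    refine ⟨x, ?_⟩
    refine eq_of_fiber p s hs (hyc.preimage σ.continuous) (K122.Stein.isPreconnected_preimage σ y) (hall x hx)
      (Set.singleton_nonempty x) (Set.singleton_subset_iff.2 hx) (hGs y hgy) (fun w hw _ => hall w hw)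

end K502.Stein
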