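import Groth.Agent.SSMod.K502.SteinTop
import Groth.Agent.SSMod.K122.ValBase
import Groth.Agent.SSMod.K122.Fib
import Groth.Agent.EGA43.K132.GeomRkOpen
import Groth.Agent.Sga4h.RegPushFin539
import Groth.Agent.VarietyA.GeomRedSch
import Groth.Agent.Dual.H341.CMSch
import Groth.Agent.CurvesB.DimPts
import Groth.Agent.S1589

/-!
# Fibres of nodal families: smoothness at the non-closed points
-/

set_option autoImplicit false
universe u

open CategoryTheory CategoryTheory.Limits AlgebraicGeometry TopologicalSpace

namespace K502.SteinFib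

variable {X S : Scheme.{u}} (f : X ⟶ S)

theorem krullDim_fiber_le (hf : Curv2.IsNodalFamily f) (s : S) : topologicalKrullDim ↥(f.fiber s) ≤ 1 :=
  Groth.Agent.Dual.H341.CMSch.topologicalKrullDim_le_of_components ↥(f.fiber s) 1 (hf.2.2 s).1

/-- The non-closed points of a fibre of a nodal family are smooth points. -/
theorem mem_smoothLocus (hf : Curv2.IsNodalFamily f) [LocallyOfFinitePresentation f] (s : S) (z : f.fiber s)
    (hz : ¬ IsClosed ({z} : Set ↥(f.fiber s))) : f.fiberι s z ∈ f.smoothLocus := by
  obtain ⟨hflat, hlfp, h⟩ := hf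
  obtain ⟨hdim, hawn⟩ := h s
  have hlfp' : LocallyOfFiniteType (f.fiberToSpecResidueField s) :=
    MorphismProperty.of_isPullback (IsPullback.of_hasPullback f (S.fromSpecResidueField s)) inferInstance
  have hlfp2 : LocallyOfFinitePresentation (f.fiberToSpecResidueField s) :=
    MorphismProperty.of_isPullback (IsPullback.of_hasPullback f (S.fromSpecResidueField s)) inferInstance
  have hgr : GeometricallyReduced (f.fiberToSpecResidueField s) :=
    (@Groth.Agent.S1589.result (S.residueField s) _ (f.fiber s)
      ⟨f.fiberToSpecResidueField s⟩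
      (inferInstanceAs (LocallyOfFiniteType (f.fiberToSpecResidueField s))) hdim hawn).2
  have hN : IsLocallyNoetherian (f.fiber s) :=
    LocallyOfFiniteType.isLocallyNoetherian (f.fiberToSpecResidueField s)
  have hdense : Dense ((f.fiberToSpecResidueField s).smoothLocus : Set ↥(f.fiber s)) :=
    Groth.Agent.VarietyA.GeomRedSch.dense_smoothLocus (S.residueField s) (f.fiberToSpecResidueField s)
  rw [← K132.GeomRkOpen.mem_smoothLocus_fiber_iff]
  by_contra hns
  refine hz (Groth.Agent.Sga4h.RegPushFin539.isClosed_singleton (fun x => ?_)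
    (f.fiberToSpecResidueField s).smoothLocus.ι ?_ z ?_)
  · have h1 := Groth.Agent.Dual.H341.CMSch.topologicalKrullDim_le_of_components ↥(f.fiber s) 1 hdim
    exact (Groth.Agent.CurvesB.DimPts.ringKrullDim_stalk_le x).trans h1
  · have h1 := Scheme.Opens.range_ι (f.fiberToSpecResidueField s).smoothLocus
    rw [show Set.range (f.fiberToSpecResidueField s).smoothLocus.ι.base =
      ((f.fiberToSpecResidueField s).smoothLocus : Set ↥(f.fiber s)) from h1]
    exact hdense
  · intro h1
    rw [Scheme.Opens.range_ι (f.fiberToSpecResidueField s).smoothLocus] at h1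
    exact hns h1

/-- The fibres of a factor of `p` embed in the fibres of `p`. -/
theorem krullDim_fiber_factor_le {Y : Scheme.{u}} (g : X ⟶ Y) (q : Y ⟶ S) (h : g ≫ q = f)
    (hf : Curv2.IsNodalFamily f) (y : Y) : topologicalKrullDim ↥(g.fiber y) ≤ 1 := by
  have hsub : g ⁻¹' {y} ⊆ f ⁻¹' {q y} := by
    intro x hx
    have hx' : g x = y := hx
    show f x = q y
    rw [← h, Scheme.Hom.comp_apply, hx']
  have h1 : Topology.IsInducing (Set.inclusion hsub) := (Topology.IsEmbedding.inclusion hsub).isInducing
  have h2 : Topology.IsInducing (((f.fiberHomeo (q y)).symm ∘ Set.inclusion hsub) ∘ (g.fiberHomeo y)) :=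
    ((f.fiberHomeo (q y)).symm.isInducing.comp h1).comp (g.fiberHomeo y).isInducing
  exact h2.topologicalKrullDim_le.trans (krullDim_fiber_le f hf (q y))

section Closed

variable (s : S) (hs : IsClosed ({s} : Set S))

include hs in
theorem isClosedEmbedding_fiberι : Topology.IsClosedEmbedding (f.fiberι s) := by
  have h1 : IsClosedImmersion (S.fromSpecResidueField s) := isClosed_singleton_iff_isClosedImmersion.1 hs
  have h2 : IsClosedImmersion (f.fiberι s) :=
    MorphismProperty.of_isPullback (IsPullback.of_hasPullback f (S.fromSpecResidueField s)).flip h1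
  exact (f.fiberι s).isClosedEmbedding

include hs in
theorem isClosed_singleton_iff (z : f.fiber s) :
    IsClosed ({f.fiberι s z} : Set X) ↔ IsClosed ({z} : Set ↥(f.fiber s)) := by
  have h := isClosedEmbedding_fiberι f s hs
  rw [h.isClosed_iff_image_isClosed, Set.image_singleton]

end Closed

end K502.SteinFib
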