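import Groth.Agent.SSMod.K755.Plan
import Groth.Agent.SSMod.K502.SteinFib
import Groth.Agent.VarietyB.GenLocusTensor

/-!
# The line bundle of a finite set of divisors
-/

set_option autoImplicit false
universe u

open CategoryTheory CategoryTheory.Limits AlgebraicGeometry TopologicalSpace

namespace K502.SteinDiv

open Groth.Agent.Fdesc.LocGen

theorem exists_line (hDiv : K755.SSPlan.Div.{u}) (R : Type u) [CommRing R] [IsDomain R] [ValuationRing R]
    [IsAlgClosed (FractionRing R)] {X : Scheme.{u}} (p : X ⟶ Spec (CommRingCat.of R)) [IsSeparated p]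
    [LocallyOfFinitePresentation p] [QuasiCompact p] (hrel : Cyc.HasRelDim p 1) (F : Set X) (hF : F.Finite)
    (hsm : ∀ x ∈ F, x ∈ p.smoothLocus) (hcl : ∀ x ∈ F, IsClosed ({x} : Set X))
    (hp : ∀ x ∈ F, p x = IsLocalRing.closedPoint R) :
    ∃ (L : X.Modules) (s : Coh.structureModule X ⟶ L), PicF.IsInvertible L ∧
      (∀ x ∈ F, x ∉ CohB1.genLocus L s) ∧ (∀ y : X, y ∉ CohB1.genLocus L s → ∃ x ∈ F, y ⤳ x) ∧
      ∀ q : Spec (CommRingCat.of R), (p ⁻¹' {q} \ (CohB1.genLocus L s : Set X)).Finite := by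
  have hsm0 : Smooth (p.smoothLocus.ι ≫ p) := K122.Fib.smooth_smoothLocus p
  induction F, hF using Set.Finite.induction_on with
  | empty =>
    refine ⟨Coh.structureModule X, 𝟙 _, isInvertible_structureModule, by simp, ?_, ?_⟩
    · intro y hy
      rw [Groth.Agent.VarietyB.GenLocusTensor.genLocus_id] at hy
      exact absurd trivial hy
    · intro q
      rw [Groth.Agent.VarietyB.GenLocusTensor.genLocus_id]
      simp
  | @insert a F _ _ ih =>
    obtain ⟨L, s, hL, h1, h2, h3⟩ := ih (fun x hx => hsm x (Or.inr hx)) (fun x hx => hcl x (Or.inr hx))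
      (fun x hx => hp x (Or.inr hx))
    obtain ⟨M, t, hM, g1, g2, g3⟩ := hDiv R p hrel p.smoothLocus hsm0 a (hsm a (Or.inl rfl)) (hcl a (Or.inl rfl))
      (hp a (Or.inl rfl))
    refine ⟨CohB1.tensorMod L M, Groth.Agent.VarietyB.GenLocusTensor.tmulHom s t, isInvertible_tensorMod hL hM, ?_, ?_, ?_⟩
    · rintro x (rfl | hx) hx'
      · rw [Groth.Agent.VarietyB.GenLocusTensor.genLocus_tmulHom hL hM] at hx'
        exact g1 hx'.2
      · rw [Groth.Agent.VarietyB.GenLocusTensor.genLocus_tmulHom hL hM] at hx'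
        exact h1 x hx hx'.1
    · intro y hy
      rw [Groth.Agent.VarietyB.GenLocusTensor.genLocus_tmulHom hL hM] at hy
      by_cases hy1 : y ∈ CohB1.genLocus L s
      · have hy2 : y ∉ CohB1.genLocus M t := fun h => hy ⟨hy1, h⟩
        exact ⟨a, Or.inl rfl, g2 y hy2⟩
      · obtain ⟨x, hx, hyx⟩ := h2 y hy1
        exact ⟨x, Or.inr hx, hyx⟩
    · intro q
      rw [Groth.Agent.VarietyB.GenLocusTensor.genLocus_tmulHom hL hM]
      refine ((h3 q).union (g3 q)).subset ?_
      rintro x ⟨hx1, hx2⟩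
      by_cases hx3 : x ∈ CohB1.genLocus L s
      · exact Or.inr ⟨hx1, fun h => hx2 ⟨hx3, h⟩⟩
      · exact Or.inl ⟨hx1, hx3⟩

end K502.SteinDiv
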