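import Groth.Agent.SSMod.K755.Plan2
import Groth.Agent.SSMod.K502.SteinDiv
import Groth.Agent.SSMod.K122.Stein
import Groth.Agent.CurvSt.K897.SteinMap
import Groth.Agent.Ega2.AmpleWeight
import Groth.Agent.Ega43.FPOfComp
import Groth.Agent.S0429
import Groth.Agent.S0388
import Groth.Agent.S1340

/-!
# The Stein factorization given by a globally generated invertible module over a valuation ring
-/

set_option autoImplicit false
universe u

open CategoryTheory CategoryTheory.Limits AlgebraicGeometry TopologicalSpace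

namespace K502.SteinCtn

open Groth.Agent

theorem exists_ctn (hFin : K755.SSPlan.Fin.{u}) (R : Type u) [CommRing R] [IsDomain R] [ValuationRing R]
    [Finite (PrimeSpectrum R)] [IsAlgClosed (FractionRing R)]
    {V X : Scheme.{u}} [IsAffine V] (φ : V ⟶ Spec (CommRingCat.of R)) [LocallyOfFinitePresentation φ]
    (f : X ⟶ V) [IsProper f] (hnod : Curv2.IsNodalFamily (f ≫ φ))
    {L : X.Modules} (hL : PicF.IsInvertible L) (s : Coh.structureModule X ⟶ L) {n : ℕ} (hn : 0 < n)
    (hgg : Curv2.IsGloballyGenerated (CohB1.tensorPow L n)) :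
    ∃ (Y : Scheme.{u}) (σ : X ⟶ Y) (g : Y ⟶ V), K755.SSPlan.Ctn φ f σ g ∧ GeometricallyConnected σ ∧
      ∃ V₀ : Y.Opens, IsAffineOpen V₀ ∧ σ ⁻¹ᵁ V₀ = CohB1.genLocus L s := by
  let A : Type u := Γ(V, ⊤)
  let f' : X ⟶ Spec (CommRingCat.of A) := f ≫ V.isoSpec.hom
  have hM : PicF.IsInvertible (CohB1.tensorPow L n) := Fdesc.LocGen.isInvertible_tensorPow hL n
  have hcs : CompactSpace X := QuasiCompact.compactSpace_of_compactSpace f'
  obtain ⟨m, t, hcov⟩ := K897.SteinMap.exists_fin_cover hM hgg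
  let t' : Fin (m + 1 + 1) → (Coh.structureModule X ⟶ CohB1.tensorPow L n) :=
    Fin.cons (Ega2.Weight.powHom s n) t
  have hcov' : ⨆ i, CohB1.genLocus (CohB1.tensorPow L n) (t' i) = ⊤ := by
    rw [eq_top_iff, ← hcov]
    exact iSup_le fun i => le_iSup_of_le i.succ (by simp [t'])
  obtain ⟨ψ, hψ, hk⟩ := VarietyA.ProjMor.exists_hom_projSpace f' t' hcov'
  have hprop : IsProper (ψ ≫ CohB1.ProjSpace.toSpec (m + 1) A) := by rw [hψ]; infer_instance
  have hψp : IsProper ψ := IsProper.of_comp ψ (CohB1.ProjSpace.toSpec (m + 1) A)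
  let r : CohB1.ProjSpace (m + 1) A ⟶ Spec (CommRingCat.of R) :=
    CohB1.ProjSpace.toSpec (m + 1) A ≫ V.isoSpec.inv ≫ φ
  have hψr : ψ ≫ r = f ≫ φ := by
    show ψ ≫ CohB1.ProjSpace.toSpec (m + 1) A ≫ V.isoSpec.inv ≫ φ = f ≫ φ
    rw [← Category.assoc, hψ]
    show (f ≫ V.isoSpec.hom) ≫ V.isoSpec.inv ≫ φ = f ≫ φ
    rw [Category.assoc, Iso.hom_inv_id_assoc]
  have hfin : IsFinite ψ.fromNormalization := hFin R (f ≫ φ) hnod r ψ hψr
  let P0 : (CohB1.ProjSpace (m + 1) A).Opens :=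
    Proj.basicOpen (CohB1.polyGrading (m + 1) A) (MvPolynomial.X 0 : MvPolynomial (Fin (m + 1 + 1)) A)
  have hPaff : IsAffineOpen P0 := Proj.isAffineOpen_basicOpen (CohB1.polyGrading (m + 1) A) (m := 1) _
    (MvPolynomial.isHomogeneous_X _ 0) Nat.one_pos
  have hP0 : ψ ⁻¹ᵁ P0 = CohB1.genLocus L s := by
    rw [hk 0]
    show CohB1.genLocus (CohB1.tensorPow L n) (t' 0) = _
    rw [show t' 0 = Ega2.Weight.powHom s n from rfl]
    exact Ega2.Weight.genLocus_powHom hL s hn
  have hf1 : ψ.toNormalization ≫ ψ.fromNormalization = ψ := Scheme.Hom.toNormalization_fromNormalization ψ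
  have hsepN : IsSeparated ψ.fromNormalization := inferInstance
  have hfp : IsProper ψ.toNormalization := by
    have : IsProper (ψ.toNormalization ≫ ψ.fromNormalization) := by rw [hf1]; exact hψp
    exact IsProper.of_comp _ ψ.fromNormalization
  let g : ψ.normalization ⟶ V := ψ.fromNormalization ≫ CohB1.ProjSpace.toSpec (m + 1) A ≫ V.isoSpec.inv
  have hfac : ψ.toNormalization ≫ g = f := by
    show ψ.toNormalization ≫ ψ.fromNormalization ≫ CohB1.ProjSpace.toSpec (m + 1) A ≫ V.isoSpec.inv = f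
    rw [← Category.assoc, hf1, ← Category.assoc, hψ]
    show (f ≫ V.isoSpec.hom) ≫ V.isoSpec.inv = f
    rw [Category.assoc, Iso.hom_inv_id, Category.comp_id]
  have hgp : IsProper g := by
    have h1 : IsProper (CohB1.ProjSpace.toSpec (m + 1) A ≫ V.isoSpec.inv) := inferInstance
    exact MorphismProperty.comp_mem (W := @IsProper) _ _ inferInstance h1
  have hdom : IsSchemeTheoreticallyDominant ψ.toNormalization := ⟨ψ.ker_toNormalization⟩
  have hflatp : Flat (ψ.toNormalization ≫ g ≫ φ) := by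
    rw [← Category.assoc, hfac]; exact hnod.1
  have hflat : Flat (g ≫ φ) := K122.ValBase.flat_of_dominant R ψ.toNormalization (g ≫ φ)
  have hgft : LocallyOfFiniteType (g ≫ φ) := inferInstance
  have hlfp : LocallyOfFinitePresentation (g ≫ φ) := S0429.result (g ≫ φ)
  refine ⟨ψ.normalization, ψ.toNormalization, g, ⟨hfac, hfp, hgp, hflat, hlfp, fun U => S1340.result ψ U⟩,
    (S0388.result ψ).1, ψ.fromNormalization ⁻¹ᵁ P0, hPaff.preimage _, ?_⟩
  rw [← Scheme.Hom.comp_preimage, hf1, hP0]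

end K502.SteinCtn
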