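import Mathlib.Topology.JacobsonSpace
import Mathlib.Topology.NoetherianSpace
import Mathlib.Topology.Sober
import Mathlib.Topology.Connected.Basic

/-!
# Topological lemmas for the contraction of a connected part of a fibre
-/

set_option autoImplicit false
universe u

open TopologicalSpace

namespace K502.SteinTop

variable {F : Type u} [TopologicalSpace F]

/-- In a Noetherian sober space, a closed part `T` of a connected closed set `G` whose complement consists of closed
points is everything. -/
theorem eq_of_isClosed_points [NoetherianSpace F] [QuasiSober F] {G T : Set F} (hG : IsClosed G)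
    (hGc : _root_.IsPreconnected G) (hT : IsClosed T) (hTn : T.Nonempty) (hTG : T ⊆ G)
    (hcl : ∀ x ∈ G, x ∉ T → IsClosed ({x} : Set F)) : G = T := by
  -- `G \ T` is finite
  have hfin : (G \ T).Finite := by
    have hcomp : (irreducibleComponents ↥G).Finite := NoetherianSpace.finite_irreducibleComponents
    have key : ∀ x : ↥G, (x : F) ∉ T → ({x} : Set ↥G) ∈ irreducibleComponents ↥G := by
      intro x hx
      have h1 : irreducibleComponent x ∈ irreducibleComponents ↥G := irreducibleComponent_mem_irreducibleComponents x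
      have h2 : IsIrreducible ((↑) '' irreducibleComponent x : Set F) :=
        (isIrreducible_irreducibleComponent (x := x)).image _ continuous_subtype_val.continuousOn
      have h3 : IsClosed ((↑) '' irreducibleComponent x : Set F) :=
        hG.isClosedEmbedding_subtypeVal.isClosedMap _ isClosed_irreducibleComponent
      obtain ⟨ξ, hξ⟩ := QuasiSober.sober h2 h3
      have hξm : ξ ∈ ((↑) '' irreducibleComponent x : Set F) := hξ.mem
      obtain ⟨ξ', hξ'1, hξ'2⟩ := hξm
      have hxm : (x : F) ∈ ((↑) '' irreducibleComponent x : Set F) := ⟨x, mem_irreducibleComponent, rfl⟩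
      have hsp : ξ ⤳ (x : F) := hξ.specializes hxm
      have hξT : ξ ∉ T := fun h => hx (hsp.mem_closed hT h)
      have hξG : ξ ∈ G := by rw [← hξ'2]; exact ξ'.2
      have hξc := hcl ξ hξG hξT
      have hxξ : (x : F) = ξ := by
        have := hsp.mem_closed hξc (Set.mem_singleton ξ)
        simpa using this
      have h4 : ((↑) '' irreducibleComponent x : Set F) = {(x : F)} := by
        rw [← hξ.def, hxξ, hξc.closure_eq]
      have h5 : irreducibleComponent x = {x} := by
        apply Subtype.val_injective.image_injective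
        rw [h4]; simp
      rw [← h5]; exact h1
    have h6 : ((fun x : ↥G => ({x} : Set ↥G)) ⁻¹' irreducibleComponents ↥G).Finite :=
      hcomp.preimage (Set.singleton_injective.injOn)
    refine (h6.image (fun x : ↥G => (x : F))).subset ?_
    rintro x ⟨hxG, hxT⟩
    exact ⟨⟨x, hxG⟩, key ⟨x, hxG⟩ hxT, rfl⟩
  have hclosed : IsClosed (G \ T) := by
    have h1 : G \ T = ⋃ x ∈ G \ T, ({x} : Set F) := (Set.biUnion_of_singleton _).symm
    rw [h1]
    exact hfin.isClosed_biUnion fun x hx => hcl x hx.1 hx.2
  by_contra hne
  have hne' : (G \ T).Nonempty := by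
    rw [Set.nonempty_iff_ne_empty]
    intro h
    exact hne (Set.Subset.antisymm (Set.sdiff_eq_empty.1 h) hTG)
  have h7 := (isPreconnected_closed_iff.1 hGc) T (G \ T) hT hclosed
    (fun x hx => by by_cases h : x ∈ T; exacts [Or.inl h, Or.inr ⟨hx, h⟩])
    (by obtain ⟨x, hx⟩ := hTn; exact ⟨x, hTG hx, hx⟩)
    (by obtain ⟨x, hx⟩ := hne'; exact ⟨x, hx.1, hx⟩)
  obtain ⟨x, -, hx1, hx2⟩ := h7
  exact hx2.2 hx1

/-- The closure of a non-closed point of a Jacobson space is infinite. -/
theorem infinite_closure [T0Space F] [JacobsonSpace F] (ξ : F) (hξ : ¬ IsClosed ({ξ} : Set F)) :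
    (closure ({ξ} : Set F)).Infinite := by
  intro hfin
  let S : Set F := closure {ξ} \ {ξ}
  have hS : IsClosed S := by
    have h1 : S = ⋃ x ∈ S, closure ({x} : Set F) := by
      ext w
      simp only [Set.mem_iUnion]
      constructor
      · intro hw
        exact ⟨w, hw, subset_closure rfl⟩
      · rintro ⟨x, hx, hw⟩
        refine ⟨?_, ?_⟩
        · exact (closure_minimal (Set.singleton_subset_iff.2 hx.1) isClosed_closure) hw
        · rintro rfl
          have h2 : x ⤳ w := specializes_iff_mem_closure.2 hw
          have h3 : w ⤳ x := specializes_iff_mem_closure.2 hx.1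
          exact hx.2 (h2.antisymm h3).eq
    rw [h1]
    exact (hfin.subset Set.sdiff_subset).isClosed_biUnion fun x _ => isClosed_closure
  have hlc : IsLocallyClosed ({ξ} : Set F) := by
    refine ⟨Sᶜ, closure {ξ}, hS.isOpen_compl, isClosed_closure, ?_⟩
    ext w
    simp only [Set.mem_singleton_iff, Set.mem_inter_iff, Set.mem_compl_iff]
    constructor
    · rintro rfl
      exact ⟨fun h => h.2 rfl, subset_closure rfl⟩
    · rintro ⟨h1, h2⟩
      by_contra h3
      exact h1 ⟨h2, h3⟩
  obtain ⟨x, hx, hxc⟩ := nonempty_inter_closedPoints (Set.singleton_nonempty ξ) hlc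
  rw [Set.mem_singleton_iff] at hx
  subst hx
  exact hξ (mem_closedPoints_iff.1 hxc)

/-- A non-closed point of a Jacobson space in an open set specialises to a closed point in this open set. -/
theorem exists_closed [JacobsonSpace F] (ξ : F) (W : Set F) (hW : IsOpen W) (hξW : ξ ∈ W) :
    ∃ x : F, ξ ⤳ x ∧ x ∈ W ∧ IsClosed ({x} : Set F) := by
  have hlc : IsLocallyClosed (W ∩ closure {ξ}) := ⟨W, closure {ξ}, hW, isClosed_closure, rfl⟩
  obtain ⟨x, hx, hxc⟩ := nonempty_inter_closedPoints (⟨ξ, hξW, subset_closure rfl⟩ : (W ∩ closure {ξ}).Nonempty) hlc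
  exact ⟨x, specializes_iff_mem_closure.2 hx.2, hx.1, mem_closedPoints_iff.1 hxc⟩

end K502.SteinTop
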